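import Mathlib.GroupTheory.Transfer
import Mathlib.GroupTheory.Sylow
import Mathlib.GroupTheory.Abelianization.Defs
import Mathlib.RingTheory.Int.Basic
import Cfsg.Prelude.Def_Solvable

/-!
Groups with a self-centralizing element of prime order.
-/

set_option autoImplicit false
set_option linter.all false

namespace CfsgLib.SelfCentralizing

open scoped commutatorElement

variable {G : Type*} [Group G]

/-! ### The p'-core (local copies of elementary facts) -/

lemma card_sup_dvd_mul (S T : Subgroup G) [S.Normal] [Finite G] :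
    Nat.card (S ⊔ T : Subgroup G) ∣ Nat.card S * Nat.card T := by
  have h1 : Nat.card S * S.relIndex (S ⊔ T) = Nat.card (S ⊔ T : Subgroup G) := by
    rw [← Subgroup.relIndex_bot_left, ← Subgroup.relIndex_bot_left,
      Subgroup.relIndex_mul_relIndex _ _ _ bot_le le_sup_left]
  rw [← h1, Subgroup.relIndex_sup_left]
  exact Nat.mul_dvd_mul_left _ (Subgroup.relIndex_dvd_card _ _)

lemma core_spec (p : ℕ) [Finite G] :
    (Cfsg.pPrimeCore p G).Normal ∧ (Nat.card (Cfsg.pPrimeCore p G)).Coprime p := by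
  classical
  have key : ∀ F : Finset (Subgroup G), (∀ S ∈ F, S.Normal ∧ (Nat.card S).Coprime p) →
      (F.sup id).Normal ∧ (Nat.card (F.sup id : Subgroup G)).Coprime p := by
    intro F
    induction F using Finset.induction_on with
    | empty =>
      intro _
      refine ⟨by simp only [Finset.sup_empty]; infer_instance, ?_⟩
      simp
    | @insert a F ha ih =>
      intro h
      obtain ⟨haN, hac⟩ := h a (Finset.mem_insert_self _ _)
      obtain ⟨hFN, hFc⟩ := ih fun S hS => h S (Finset.mem_insert_of_mem hS)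
      rw [Finset.sup_insert]
      exact ⟨Subgroup.sup_normal a _,
        Nat.Coprime.coprime_dvd_left (card_sup_dvd_mul a _) (Nat.Coprime.mul_left hac hFc)⟩
  haveI : Fintype (Subgroup G) := Fintype.ofFinite _
  have heq : Cfsg.pPrimeCore p G =
      (Finset.univ.filter fun S : Subgroup G => S.Normal ∧ (Nat.card S).Coprime p).sup id := by
    rw [Finset.sup_eq_iSup]
    simp [Cfsg.pPrimeCore, sSup_eq_iSup]
  rw [heq]
  exact key _ fun S hS => (Finset.mem_filter.1 hS).2

lemma le_core (p : ℕ) {S : Subgroup G} (hS : S.Normal) (hc : (Nat.card S).Coprime p) :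
    S ≤ Cfsg.pPrimeCore p G :=
  le_sSup ⟨hS, hc⟩

lemma core_characteristic (p : ℕ) [Finite G] : (Cfsg.pPrimeCore p G).Characteristic := by
  rw [Subgroup.characteristic_iff_map_le]
  intro φ
  obtain ⟨hn, hc⟩ := core_spec (G := G) p
  refine le_core p (hn.map _ φ.surjective) ?_
  rwa [Subgroup.card_map_of_injective φ.injective]

/-- The hypothesis: `x` has prime order `p` and generates its own centralizer. -/
structure Hyp (G : Type*) [Group G] (p : ℕ) (x : G) : Prop where
  prime : p.Prime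
  order : orderOf x = p
  cent : Subgroup.centralizer ({x} : Set G) = Subgroup.zpowers x

namespace Hyp

variable [Finite G] {p : ℕ} {x : G}

lemma mem_zpowers_of_commute (h : Hyp G p x) {g : G} (hg : g * x = x * g) :
    g ∈ Subgroup.zpowers x := by
  rw [← h.cent]
  exact Subgroup.mem_centralizer_singleton_iff.2 (by first | exact hg | exact hg.symm)

lemma card_zpowers (h : Hyp G p x) : Nat.card (Subgroup.zpowers x) = p := by
  rw [Nat.card_zpowers, h.order]

/-- The Sylow subgroup generated by `x`. -/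
lemma exists_sylow (h : Hyp G p x) : ∃ P : Sylow p G, (P : Subgroup G) = Subgroup.zpowers x := by
  haveI : Fact p.Prime := ⟨h.prime⟩
  have hp : IsPGroup p (Subgroup.zpowers x) :=
    IsPGroup.of_card (n := 1) (by rw [h.card_zpowers, pow_one])
  obtain ⟨Q, hQ⟩ := hp.exists_le_sylow
  refine ⟨Q, le_antisymm ?_ hQ⟩
  have hxQ : x ∈ (Q : Subgroup G) := hQ (Subgroup.mem_zpowers x)
  haveI : Nontrivial (Q : Subgroup G) :=
    ⟨⟨x, hxQ⟩, 1, fun e => h.prime.ne_one (by
      rw [← h.order, orderOf_eq_one_iff]; exact congrArg Subtype.val e)⟩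
  haveI := Q.isPGroup'.center_nontrivial
  obtain ⟨z, hz⟩ := exists_ne (1 : Subgroup.center (Q : Subgroup G))
  have hzc : ∀ q ∈ (Q : Subgroup G), q * (z : G) = z * q := fun q hq =>
    congrArg Subtype.val (Subgroup.mem_center_iff.1 z.2 ⟨q, hq⟩)
  have hzx : ((z : (Q : Subgroup G)) : G) ∈ Subgroup.zpowers x :=
    h.mem_zpowers_of_commute (hzc x hxQ).symm
  have hz1 : ((z : (Q : Subgroup G)) : G) ≠ 1 := fun e => hz (Subtype.ext (Subtype.ext e))
  have hgen : Subgroup.zpowers ((z : (Q : Subgroup G)) : G) = Subgroup.zpowers x := by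
    apply Subgroup.eq_of_le_of_card_ge (Subgroup.zpowers_le.2 hzx)
    rw [h.card_zpowers]
    have hd := Subgroup.card_dvd_of_le (Subgroup.zpowers_le.2 hzx)
    rw [h.card_zpowers] at hd
    rcases h.prime.eq_one_or_self_of_dvd _ hd with h1 | h1
    · rw [Nat.card_zpowers, orderOf_eq_one_iff] at h1; exact absurd h1 hz1
    · exact h1.ge
  intro q hq
  obtain ⟨i, hi⟩ := Subgroup.mem_zpowers_iff.1
    (show x ∈ Subgroup.zpowers ((z : (Q : Subgroup G)) : G) by rw [hgen]; exact Subgroup.mem_zpowers x)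
  have : Commute q x := hi ▸ Commute.zpow_right (hzc q hq) i
  exact h.mem_zpowers_of_commute this

lemma card_sylow (h : Hyp G p x) (Q : Sylow p G) : Nat.card Q = p := by
  haveI : Fact p.Prime := ⟨h.prime⟩
  obtain ⟨P, hP⟩ := h.exists_sylow
  rw [Q.card_eq_multiplicity, ← P.card_eq_multiplicity]
  exact (congrArg (fun H : Subgroup G => Nat.card H) hP).trans h.card_zpowers

lemma not_sq_dvd (h : Hyp G p x) : ¬ p ^ 2 ∣ Nat.card G := by
  haveI : Fact p.Prime := ⟨h.prime⟩
  obtain ⟨P, hP⟩ := h.exists_sylow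
  intro hd
  have := P.pow_dvd_card_of_pow_dvd_card hd
  rw [h.card_sylow P] at this
  have := Nat.le_of_dvd h.prime.pos this
  nlinarith [h.prime.two_le]

lemma dvd_card (h : Hyp G p x) : p ∣ Nat.card G := h.order ▸ orderOf_dvd_natCard x

/-- The normalizer of `⟨x⟩`. -/
abbrev norm (_ : Hyp G p x) : Subgroup G :=
  Subgroup.normalizer ((Subgroup.zpowers x : Subgroup G) : Set G)

lemma le_norm (h : Hyp G p x) : Subgroup.zpowers x ≤ h.norm := Subgroup.le_normalizer

lemma card_subgroups (h : Hyp G p x) :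
    Nat.card {H : Subgroup G // Nat.card H = p} = h.norm.index := by
  haveI : Fact p.Prime := ⟨h.prime⟩
  obtain ⟨P, hP⟩ := h.exists_sylow
  show _ = (Subgroup.normalizer ((Subgroup.zpowers x : Subgroup G) : Set G)).index
  rw [← hP]
  change _ = (Subgroup.normalizer ((P : Subgroup G) : Set G)).index
  rw [show (Subgroup.normalizer ((P : Subgroup G) : Set G)).index = Nat.card (Sylow p G) from
    (Sylow.card_eq_index_normalizer P).symm]
  have hc : ∀ Q : Sylow p G, Nat.card Q = p := h.card_sylow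
  refine Nat.card_congr (Equiv.ofBijective
    (fun Q : Sylow p G => (⟨(Q : Subgroup G), hc Q⟩ : {H : Subgroup G // Nat.card H = p})) ⟨?_, ?_⟩).symm
  · intro Q Q' e
    exact Sylow.ext (congrArg Subtype.val e)
  · rintro ⟨H, hH⟩
    obtain ⟨Q, hQ⟩ := (IsPGroup.of_card (n := 1) (by rw [hH, pow_one]) : IsPGroup p H).exists_le_sylow
    exact ⟨Q, Subtype.ext (Subgroup.eq_of_le_of_card_ge hQ (by rw [hH]; exact (hc Q).le)).symm⟩

lemma exists_conj_of_card (h : Hyp G p x) {H : Subgroup G} (hH : Nat.card H = p) :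
    ∃ g : G, ∀ y, y ∈ H ↔ g * y * g⁻¹ ∈ Subgroup.zpowers x := by
  haveI : Fact p.Prime := ⟨h.prime⟩
  obtain ⟨P, hP⟩ := h.exists_sylow
  obtain ⟨Q, hQ⟩ := (IsPGroup.of_card (n := 1) (by rw [hH, pow_one]) : IsPGroup p H).exists_le_sylow
  have hQH : (Q : Subgroup G) = H := (Subgroup.eq_of_le_of_card_ge hQ (by
    rw [hH]; exact (h.card_sylow Q).le)).symm
  obtain ⟨g, hg⟩ := MulAction.exists_smul_eq G Q P
  refine ⟨g, fun y => ?_⟩
  rw [← hP, ← hg, ← hQH, Sylow.coe_subgroup_smul]
  have : g * y * g⁻¹ = (MulAut.conj g) • y := rfl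
  rw [this, Subgroup.smul_mem_pointwise_smul_iff]

/-- Elements of the normalizer fixing `x` lie in `⟨x⟩`; conjugates of `x` stay in `⟨x⟩`. -/
lemma conj_mem_norm (h : Hyp G p x) {n : G} (hn : n ∈ h.norm) :
    n * x * n⁻¹ ∈ Subgroup.zpowers x :=
  (Subgroup.mem_normalizer_iff.1 hn x).1 (Subgroup.mem_zpowers x)

lemma commutator_norm_mem (h : Hyp G p x) {n m : G} (hn : n ∈ h.norm) (hm : m ∈ h.norm) :
    n * m * n⁻¹ * m⁻¹ ∈ Subgroup.zpowers x := by
  obtain ⟨i, hi⟩ := Subgroup.mem_zpowers_iff.1 (h.conj_mem_norm hn)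
  obtain ⟨j, hj⟩ := Subgroup.mem_zpowers_iff.1 (h.conj_mem_norm hm)
  obtain ⟨i', hi'⟩ := Subgroup.mem_zpowers_iff.1 (h.conj_mem_norm (inv_mem hn))
  have e1 : MulAut.conj n x = x ^ i := hi.symm
  have e2 : MulAut.conj m x = x ^ j := hj.symm
  have e : MulAut.conj (n * m) x = MulAut.conj (m * n) x := by
    rw [map_mul, map_mul, MulAut.mul_apply, MulAut.mul_apply, e1, e2, map_zpow, map_zpow, e1, e2,
      ← zpow_mul, ← zpow_mul, mul_comm]
  apply h.mem_zpowers_of_commute
  have e' : MulAut.conj (n * m * n⁻¹ * m⁻¹) x = x := by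
    rw [show n * m * n⁻¹ * m⁻¹ = (n * m) * (m * n)⁻¹ by group, map_mul, MulAut.mul_apply, map_inv]
    generalize hz : (MulAut.conj (m * n))⁻¹ x = z
    have hz' : x = MulAut.conj (m * n) z := by rw [← hz, MulAut.apply_inv_self]
    obtain ⟨k, hk⟩ : z ∈ Subgroup.zpowers x := by
      rw [← hz, ← map_inv]
      have := h.conj_mem_norm (inv_mem (mul_mem hm hn))
      rw [MulAut.conj_apply]
      exact this
    calc MulAut.conj (n * m) z = MulAut.conj (n * m) (x ^ k) := by rw [← hk]
      _ = (MulAut.conj (m * n) x) ^ k := by rw [map_zpow, e]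
      _ = MulAut.conj (m * n) z := by rw [← map_zpow]; exact congrArg _ hk
      _ = x := hz'.symm
  rw [MulAut.conj_apply, mul_inv_eq_iff_eq_mul] at e'
  exact e'

lemma card_norm_eq (h : Hyp G p x) :
    Nat.card h.norm = p * (Subgroup.zpowers x).relIndex h.norm := by
  conv_lhs => rw [← Subgroup.relIndex_bot_left,
    ← Subgroup.relIndex_mul_relIndex _ _ _ bot_le h.le_norm]
  rw [Subgroup.relIndex_bot_left, h.card_zpowers]

lemma centralizer_of_order (h : Hyp G p x) {g : G} (hg : orderOf g = p) :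
    Subgroup.centralizer ({g} : Set G) = Subgroup.zpowers g := by
  obtain ⟨c, hc⟩ := h.exists_conj_of_card (H := Subgroup.zpowers g) (by rw [Nat.card_zpowers, hg])
  refine le_antisymm (fun y hy => ?_) (Subgroup.zpowers_le.2 (Subgroup.mem_centralizer_singleton_iff.2 rfl))
  have hy' : Commute y g := by
    have := Subgroup.mem_centralizer_singleton_iff.1 hy
    first | exact this | exact this.symm
  rw [hc]
  apply h.mem_zpowers_of_commute
  -- `x` is a power of the conjugate of `g`
  have hgx : c * g * c⁻¹ ∈ Subgroup.zpowers x := (hc g).1 (Subgroup.mem_zpowers g)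
  have : Subgroup.zpowers (c * g * c⁻¹) = Subgroup.zpowers x := by
    refine Subgroup.eq_of_le_of_card_ge (Subgroup.zpowers_le.2 hgx) (le_of_eq ?_)
    rw [h.card_zpowers, Nat.card_zpowers,
      show c * g * c⁻¹ = MulAut.conj c g from rfl, MulEquiv.orderOf_eq, hg]
  obtain ⟨k, hk⟩ := Subgroup.mem_zpowers_iff.1
    (show x ∈ Subgroup.zpowers (c * g * c⁻¹) by rw [this]; exact Subgroup.mem_zpowers x)
  have : Commute (MulAut.conj c y) ((MulAut.conj c g) ^ k) := (hy'.map _).zpow_right k
  simp only [MulAut.conj_apply, hk] at this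
  exact this

lemma card_carrier (h : Hyp G p x) {C : ConjClasses G} (hC : ∃ g ∈ C.carrier, orderOf g = p) :
    Nat.card C.carrier * p = Nat.card G := by
  obtain ⟨g, hg, hgo⟩ := hC
  rw [ConjClasses.mem_carrier_iff_mk_eq] at hg
  subst hg
  rw [← ConjAct.orbit_eq_carrier_conjClasses]
  have hs : Nat.card (MulAction.stabilizer (ConjAct G) g) = p := by
    rw [← Subgroup.nat_card_centralizer_nat_card_stabilizer, h.centralizer_of_order hgo,
      Nat.card_zpowers, hgo]
  have := Nat.card_congr (MulAction.orbitEquivQuotientStabilizer (ConjAct G) g)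
  rw [this, show Nat.card G = Nat.card (ConjAct G) from rfl,
    Subgroup.card_eq_card_quotient_mul_card_subgroup (MulAction.stabilizer (ConjAct G) g), hs]

lemma card_order_p (h : Hyp G p x) :
    Nat.card {g : G // orderOf g = p} = h.norm.index * (p - 1) := by
  classical
  haveI : Fintype G := Fintype.ofFinite G
  have e : {g : G // orderOf g = p} ≃
      Σ H : {H : Subgroup G // Nat.card H = p}, {y : (H : Subgroup G) // y ≠ 1} := by
    refine ⟨fun g => ⟨⟨Subgroup.zpowers (g : G), by rw [Nat.card_zpowers, g.2]⟩,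
      ⟨⟨g, Subgroup.mem_zpowers _⟩, fun hh => h.prime.ne_one (by
        rw [← g.2, orderOf_eq_one_iff]; exact congrArg Subtype.val hh)⟩⟩,
      fun s => ⟨(s.2.1 : G), ?_⟩, fun g => rfl, ?_⟩
    · have hd : orderOf (s.2.1 : G) ∣ p := by
        have := orderOf_dvd_natCard s.2.1
        rwa [s.1.2, ← Subgroup.orderOf_coe] at this
      rcases h.prime.eq_one_or_self_of_dvd _ hd with h1 | h1
      · rw [orderOf_eq_one_iff] at h1; exact absurd (Subtype.ext h1) s.2.2
      · exact h1
    · rintro ⟨⟨H, hH⟩, ⟨⟨y, hy⟩, hy1⟩⟩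
      have hd : orderOf y ∣ p := by
        have := orderOf_dvd_natCard (⟨y, hy⟩ : H)
        rwa [hH, ← Subgroup.orderOf_coe] at this
      have heq : Subgroup.zpowers y = H := by
        refine Subgroup.eq_of_le_of_card_ge (Subgroup.zpowers_le.2 hy) (le_of_eq ?_)
        rw [hH, Nat.card_zpowers]
        rcases h.prime.eq_one_or_self_of_dvd _ hd with h1 | h1
        · rw [orderOf_eq_one_iff] at h1; exact absurd (Subtype.ext h1) hy1
        · exact h1.symm
      subst heq
      rfl
  haveI : Fintype {H : Subgroup G // Nat.card H = p} := Fintype.ofFinite _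
  have hfib : ∀ H : {H : Subgroup G // Nat.card H = p},
      Nat.card {y : (H : Subgroup G) // y ≠ 1} = p - 1 := by
    intro H
    haveI : Fintype (H : Subgroup G) := Fintype.ofFinite _
    rw [Nat.card_eq_fintype_card, Fintype.card_subtype_compl, Fintype.card_subtype_eq,
      ← Nat.card_eq_fintype_card, H.2]
  rw [Nat.card_congr e, Nat.card_sigma, Finset.sum_congr rfl (fun H _ => hfib H), Finset.sum_const,
    Finset.card_univ, ← Nat.card_eq_fintype_card, h.card_subgroups, smul_eq_mul]

/-- With `t` classes of elements of order `p` and `e = |N(⟨x⟩) : ⟨x⟩|`, `t * e = p - 1`. -/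
lemma classes_mul_relIndex (h : Hyp G p x) {t : ℕ}
    (ht : Nat.card {C : ConjClasses G // ∃ g ∈ C.carrier, orderOf g = p} = t) :
    t * (Subgroup.zpowers x).relIndex h.norm = p - 1 := by
  classical
  haveI : Finite (ConjClasses G) := Quotient.finite _
  haveI : Fintype {C : ConjClasses G // ∃ g ∈ C.carrier, orderOf g = p} := Fintype.ofFinite _
  have e : {g : G // orderOf g = p} ≃
      Σ C : {C : ConjClasses G // ∃ g ∈ C.carrier, orderOf g = p}, (C : ConjClasses G).carrier := by
    refine ⟨fun g => ⟨⟨ConjClasses.mk (g : G), g, ConjClasses.mem_carrier_mk, g.2⟩,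
      ⟨g, ConjClasses.mem_carrier_mk⟩⟩, fun s => ⟨(s.2 : G), ?_⟩, fun g => rfl, ?_⟩
    · obtain ⟨⟨C, g, hg, hgo⟩, ⟨y, hy⟩⟩ := s
      rw [ConjClasses.mem_carrier_iff_mk_eq] at hg hy
      obtain ⟨c, hc⟩ := isConj_iff.1 (ConjClasses.mk_eq_mk_iff_isConj.1 (hg.trans hy.symm))
      show orderOf y = p
      rw [← hc, show c * g * c⁻¹ = MulAut.conj c g from rfl, MulEquiv.orderOf_eq, hgo]
    · rintro ⟨⟨C, hC⟩, ⟨y, hy⟩⟩
      have hyC : ConjClasses.mk y = C := ConjClasses.mem_carrier_iff_mk_eq.1 hy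
      subst hyC
      rfl
  have hsum : Nat.card {g : G // orderOf g = p} * p = t * Nat.card G := by
    rw [Nat.card_congr e, Nat.card_sigma, Finset.sum_mul,
      Finset.sum_congr rfl (fun C _ => h.card_carrier C.2), Finset.sum_const, Finset.card_univ,
      ← Nat.card_eq_fintype_card, ht, smul_eq_mul]
  rw [h.card_order_p, ← h.norm.card_mul_index, h.card_norm_eq] at hsum
  have hpos : 0 < h.norm.index * p :=
    Nat.mul_pos (Nat.pos_of_ne_zero Subgroup.index_ne_zero_of_finite) h.prime.pos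
  refine Nat.eq_of_mul_eq_mul_left hpos ?_
  linarith [hsum]

lemma norm_eq_zpowers (h : Hyp G p x) (he : (Subgroup.zpowers x).relIndex h.norm = 1) :
    h.norm = Subgroup.zpowers x :=
  le_antisymm (Subgroup.relIndex_eq_one.1 he) h.le_norm

/-- If the normalizer is `⟨x⟩`, Burnside's transfer theorem gives a normal `p`-complement. -/
lemma exists_complement (h : Hyp G p x) (he : (Subgroup.zpowers x).relIndex h.norm = 1) :
    ∃ K : Subgroup G, K.Normal ∧ K.index = p ∧ ¬ p ∣ Nat.card K := by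
  haveI : Fact p.Prime := ⟨h.prime⟩
  obtain ⟨P, hP⟩ := h.exists_sylow
  have hle : Subgroup.normalizer ((P : Subgroup G) : Set G) ≤ Subgroup.centralizer ((P : Subgroup G) : Set G) := by
    rw [hP]
    refine (h.norm_eq_zpowers he).le.trans ?_
    rw [Subgroup.zpowers_le, Subgroup.mem_centralizer_iff]
    intro y hy
    obtain ⟨k, rfl⟩ := Subgroup.mem_zpowers_iff.1 hy
    exact (Commute.refl x).zpow_left k
  have hc := MonoidHom.ker_transferSylow_isComplement' P hle
  refine ⟨_, MonoidHom.normal_ker (MonoidHom.transferSylow P hle), ?_,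
    MonoidHom.not_dvd_card_ker_transferSylow P hle⟩
  rw [hc.symm.index_eq_card]
  exact h.card_sylow P

lemma mem_sylow_generated (h : Hyp G p x) {S : Subgroup G} (hS : S.Normal) (hp : p ∣ Nat.card S) :
    x ∈ S := by
  haveI : Fact p.Prime := ⟨h.prime⟩
  obtain ⟨y, hy⟩ := exists_prime_orderOf_dvd_card' p hp
  rw [← Subgroup.orderOf_coe] at hy
  obtain ⟨g, hg⟩ := h.exists_conj_of_card (H := Subgroup.zpowers (y : G)) (by rw [Nat.card_zpowers, hy])
  have hyx : g * y * g⁻¹ ∈ Subgroup.zpowers x := (hg _).1 (Subgroup.mem_zpowers _)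
  have : Subgroup.zpowers (g * y * g⁻¹) = Subgroup.zpowers x := by
    refine Subgroup.eq_of_le_of_card_ge (Subgroup.zpowers_le.2 hyx) (le_of_eq ?_)
    rw [h.card_zpowers, Nat.card_zpowers,
      show g * (y : G) * g⁻¹ = MulAut.conj g (y : G) from rfl, MulEquiv.orderOf_eq, hy]
  obtain ⟨k, hk⟩ := Subgroup.mem_zpowers_iff.1
    (show x ∈ Subgroup.zpowers (g * y * g⁻¹) by rw [this]; exact Subgroup.mem_zpowers x)
  rw [← hk]
  exact zpow_mem (hS.conj_mem _ y.2 g) k

/-- Frattini: a normal subgroup containing `x` supplements the normalizer and contains `G'`. -/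
lemma sup_norm_eq_top (h : Hyp G p x) {S : Subgroup G} [S.Normal] (hx : x ∈ S) :
    S ⊔ h.norm = ⊤ := by
  rw [eq_top_iff]
  intro g _
  obtain ⟨c, hc⟩ : ∃ c : S, ∀ y, y ∈ Subgroup.zpowers (g * x * g⁻¹) ↔
      (c : G) * y * (c : G)⁻¹ ∈ Subgroup.zpowers x := by
    haveI : Fact p.Prime := ⟨h.prime⟩
    have hgx : g * x * g⁻¹ ∈ S := ‹S.Normal›.conj_mem x hx g
    have hord : orderOf (g * x * g⁻¹) = p := by
      rw [show g * x * g⁻¹ = MulAut.conj g x from rfl, MulEquiv.orderOf_eq, h.order]
    have hpS : Subgroup.centralizer ({(⟨x, hx⟩ : S)} : Set S) = Subgroup.zpowers (⟨x, hx⟩ : S) := by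
      refine le_antisymm (fun y hy => ?_)
        (Subgroup.zpowers_le.2 (Subgroup.mem_centralizer_singleton_iff.2 rfl))
      have := congrArg Subtype.val (Subgroup.mem_centralizer_singleton_iff.1 hy)
      obtain ⟨k, hk⟩ := Subgroup.mem_zpowers_iff.1 (h.mem_zpowers_of_commute
        (g := (y : G)) (by first | exact this | exact this.symm))
      exact Subgroup.mem_zpowers_iff.2 ⟨k, Subtype.ext (by simpa using hk)⟩
    have hS : Hyp S p ⟨x, hx⟩ := ⟨h.prime, by rw [← Subgroup.orderOf_coe]; exact h.order, hpS⟩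
    obtain ⟨c, hc⟩ := hS.exists_conj_of_card (H := Subgroup.zpowers ⟨g * x * g⁻¹, hgx⟩) (by
      rw [Nat.card_zpowers, ← Subgroup.orderOf_coe]; exact hord)
    refine ⟨c, fun y => ⟨fun hy => ?_, fun hy => ?_⟩⟩
    · obtain ⟨k, rfl⟩ := Subgroup.mem_zpowers_iff.1 hy
      obtain ⟨m, hm⟩ := Subgroup.mem_zpowers_iff.1
        ((hc (⟨g * x * g⁻¹, hgx⟩ ^ k)).1 (zpow_mem (Subgroup.mem_zpowers _) k))
      exact Subgroup.mem_zpowers_iff.2 ⟨m, by simpa using congrArg Subtype.val hm⟩
    · obtain ⟨m, hm⟩ := Subgroup.mem_zpowers_iff.1 hy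
      have hyS : y ∈ S := by
        have : y = (c : G)⁻¹ * x ^ m * (c : G) := by rw [hm]; group
        rw [this]
        exact mul_mem (mul_mem (inv_mem c.2) (zpow_mem hx m)) c.2
      obtain ⟨k, hk⟩ := Subgroup.mem_zpowers_iff.1
        ((hc ⟨y, hyS⟩).2 (Subgroup.mem_zpowers_iff.2 ⟨m, Subtype.ext (by simpa using hm)⟩))
      exact Subgroup.mem_zpowers_iff.2 ⟨k, by simpa using congrArg Subtype.val hk⟩
  have hn : (c : G) * g ∈ h.norm := by
    rw [norm, Subgroup.mem_normalizer_iff]
    intro y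
    have key : g * y * g⁻¹ ∈ Subgroup.zpowers (g * x * g⁻¹) ↔ y ∈ Subgroup.zpowers x := by
      simp only [Subgroup.mem_zpowers_iff, conj_zpow, mul_left_inj, mul_right_inj]
    rw [← key, hc]
    simp only [mul_inv_rev, mul_assoc]
  rw [show g = (c : G)⁻¹ * ((c : G) * g) by group]
  exact Subgroup.mul_mem_sup (inv_mem c.2) hn

lemma commutator_le_of_mem (h : Hyp G p x) {S : Subgroup G} [S.Normal] (hx : x ∈ S) :
    commutator G ≤ S := by
  have hsurj : ∀ q : G ⧸ S, ∃ n ∈ h.norm, QuotientGroup.mk n = q := by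
    intro q
    obtain ⟨g, rfl⟩ := QuotientGroup.mk_surjective q
    obtain ⟨s, hs, n, hn, rfl⟩ := Subgroup.mem_sup_of_normal_left.1
      (show g ∈ S ⊔ h.norm by rw [h.sup_norm_eq_top hx]; trivial)
    refine ⟨n, hn, ?_⟩
    rw [QuotientGroup.mk_mul, (QuotientGroup.eq_one_iff s).2 hs, one_mul]
  rw [commutator_def, Subgroup.commutator_le]
  intro a _ b _
  obtain ⟨n, hn, hna⟩ := hsurj (QuotientGroup.mk a)
  obtain ⟨m, hm, hmb⟩ := hsurj (QuotientGroup.mk b)
  rw [← QuotientGroup.eq_one_iff, commutatorElement_def]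
  rw [QuotientGroup.mk_mul, QuotientGroup.mk_mul, QuotientGroup.mk_mul, QuotientGroup.mk_inv,
    QuotientGroup.mk_inv, ← hna, ← hmb, ← QuotientGroup.mk_inv, ← QuotientGroup.mk_inv,
    ← QuotientGroup.mk_mul, ← QuotientGroup.mk_mul, ← QuotientGroup.mk_mul, QuotientGroup.eq_one_iff]
  exact Subgroup.zpowers_le.2 hx (h.commutator_norm_mem hn hm)

/-- If the normalizer moves `x`, then `x` is a commutator power. -/
lemma mem_commutator (h : Hyp G p x) (he : (Subgroup.zpowers x).relIndex h.norm ≠ 1) :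
    x ∈ commutator G := by
  obtain ⟨n, hn, hnx⟩ := SetLike.not_le_iff_exists.1 (fun hle => he (Subgroup.relIndex_eq_one.2 hle))
  obtain ⟨i, hi⟩ := Subgroup.mem_zpowers_iff.1 (h.conj_mem_norm hn)
  have hz : x ^ (i - 1) ∈ commutator G := by
    rw [zpow_sub_one, hi, commutator_def, ← commutatorElement_def]
    exact Subgroup.commutator_mem_commutator (Subgroup.mem_top n) (Subgroup.mem_top x)
  have hz1 : ¬ (p : ℤ) ∣ i - 1 := by
    intro hd
    apply hnx
    apply h.mem_zpowers_of_commute
    rw [← h.order] at hd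
    have : x ^ (i - 1) = 1 := orderOf_dvd_iff_zpow_eq_one.1 hd
    rw [zpow_sub_one, mul_inv_eq_one] at this
    rw [hi, mul_inv_eq_iff_eq_mul] at this
    exact this
  obtain ⟨a, b, hab⟩ := (Nat.prime_iff_prime_int.1 h.prime).coprime_iff_not_dvd.2 hz1
  have : x = (x ^ (i - 1)) ^ b := by
    rw [← zpow_mul, mul_comm]
    conv_lhs => rw [← zpow_one x, ← hab, zpow_add, mul_comm a, zpow_mul, zpow_natCast,
      ← h.order, pow_orderOf_eq_one, one_zpow, one_mul]
  rw [this]
  exact zpow_mem hz b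

lemma index_commutator_dvd (h : Hyp G p x) (hx : x ∈ commutator G) :
    (commutator G).index ∣ (Subgroup.zpowers x).relIndex h.norm := by
  rw [← Subgroup.relIndex_top_right, ← h.sup_norm_eq_top hx, Subgroup.relIndex_sup_left]
  exact Subgroup.relIndex_dvd_of_le_left _ (Subgroup.zpowers_le.2 hx)

lemma inf_norm_eq_bot (h : Hyp G p x) {S : Subgroup G} [S.Normal] (hS : ¬ p ∣ Nat.card S) :
    S ⊓ h.norm = ⊥ := by
  have hSP : ∀ y, y ∈ S → y ∈ Subgroup.zpowers x → y = 1 := by
    intro y h1 h2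
    have hd : orderOf y ∣ Nat.card S := by
      have := orderOf_dvd_natCard (⟨y, h1⟩ : S)
      rwa [← Subgroup.orderOf_coe] at this
    have hd2 : orderOf y ∣ p := by
      have := orderOf_dvd_natCard (⟨y, h2⟩ : Subgroup.zpowers x)
      rwa [h.card_zpowers, ← Subgroup.orderOf_coe] at this
    rcases h.prime.eq_one_or_self_of_dvd _ hd2 with h3 | h3
    · exact orderOf_eq_one_iff.1 h3
    · exact absurd (h3 ▸ hd) hS
  rw [eq_bot_iff]
  rintro s ⟨hs, hn⟩
  have h1 : s * x * s⁻¹ * x⁻¹ = 1 := by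
    refine hSP _ ?_ (mul_mem (h.conj_mem_norm hn) (inv_mem (Subgroup.mem_zpowers x)))
    rw [show s * x * s⁻¹ * x⁻¹ = s * (x * s⁻¹ * x⁻¹) by group]
    exact mul_mem hs (‹S.Normal›.conj_mem _ (inv_mem hs) x)
  rw [mul_inv_eq_one, mul_inv_eq_iff_eq_mul] at h1
  exact hSP s hs (h.mem_zpowers_of_commute h1)

lemma card_dvd_index_norm (h : Hyp G p x) {S : Subgroup G} [S.Normal] (hS : ¬ p ∣ Nat.card S) :
    Nat.card S ∣ h.norm.index := by
  have hinj : Function.Injective ((QuotientGroup.mk' S).comp h.norm.subtype) := by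
    rw [injective_iff_map_eq_one]
    intro n hn
    exact Subtype.ext ((Subgroup.eq_bot_iff_forall _).1 (h.inf_norm_eq_bot hS) n
      ⟨(QuotientGroup.eq_one_iff _).1 hn, n.2⟩)
  have hd := Subgroup.card_dvd_of_injective _ hinj
  have : Nat.card h.norm * Nat.card S ∣ Nat.card G := by
    rw [Subgroup.card_eq_card_quotient_mul_card_subgroup S]
    exact Nat.mul_dvd_mul_right hd _
  rw [← h.norm.card_mul_index] at this
  exact Nat.dvd_of_mul_dvd_mul_left Nat.card_pos this

/-- A normal `p'`-subgroup is `[S, x]`. -/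
lemma le_commutator_of_not_dvd (h : Hyp G p x) {S : Subgroup G} [S.Normal]
    (hS : ¬ p ∣ Nat.card S) : ∀ s ∈ S, ∃ k ∈ S, s = ⁅k⁻¹, x⁆ := by
  have hbot := h.inf_norm_eq_bot hS
  let f : S → S := fun k => ⟨(k : G)⁻¹ * (x * (k : G) * x⁻¹),
    mul_mem (inv_mem k.2) (‹S.Normal›.conj_mem _ k.2 x)⟩
  have hinj : Function.Injective f := by
    intro k l hkl
    have e : (k : G)⁻¹ * (x * k * x⁻¹) = (l : G)⁻¹ * (x * l * x⁻¹) := congrArg Subtype.val hkl
    have hc : ((l : G) * (k : G)⁻¹) * x = x * ((l : G) * (k : G)⁻¹) := by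
      have := congrArg (fun z => (l : G) * z * (x * (k : G)⁻¹)) e
      simp only [mul_assoc, inv_mul_cancel_left, mul_inv_cancel_left, mul_inv_cancel, mul_one] at this
      simpa [mul_assoc] using this
    have hm : (l : G) * (k : G)⁻¹ ∈ S ⊓ h.norm := Subgroup.mem_inf.2
      ⟨mul_mem l.2 (inv_mem k.2), h.le_norm (h.mem_zpowers_of_commute hc)⟩
    rw [hbot, Subgroup.mem_bot, mul_inv_eq_one] at hm
    exact Subtype.ext hm.symm
  intro s hs
  obtain ⟨k, hk⟩ := (Finite.injective_iff_surjective.1 hinj) ⟨s, hs⟩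
  refine ⟨k, k.2, ?_⟩
  rw [← show (f k : G) = s from congrArg Subtype.val hk, commutatorElement_def, inv_inv]
  simp only [f, mul_assoc]

lemma relIndex_eq_one_iff (h : Hyp G p x) {t : ℕ}
    (ht : Nat.card {C : ConjClasses G // ∃ g ∈ C.carrier, orderOf g = p} = t) :
    (Subgroup.zpowers x).relIndex h.norm = 1 ↔ t = p - 1 := by
  have hte := h.classes_mul_relIndex ht
  refine ⟨fun he => by rwa [he, mul_one] at hte, fun heq => ?_⟩
  rw [heq] at hte
  have hpos : 0 < p - 1 := by have := h.prime.two_le; omega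
  exact Nat.eq_of_mul_eq_mul_left hpos (hte.trans (mul_one _).symm)

lemma not_dvd_core (h : Hyp G p x) : ¬ p ∣ Nat.card (Cfsg.pPrimeCore p G) := fun hd =>
  h.prime.coprime_iff_not_dvd.1 (core_spec (G := G) p).2.symm hd

lemma core_le_commutator (h : Hyp G p x) : Cfsg.pPrimeCore p G ≤ commutator G := by
  haveI := (core_spec (G := G) p).1
  intro s hs
  obtain ⟨k, _, rfl⟩ := h.le_commutator_of_not_dvd h.not_dvd_core s hs
  rw [commutator_def]
  exact Subgroup.commutator_mem_commutator (Subgroup.mem_top _) (Subgroup.mem_top _)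

lemma core_le_derived_two (h : Hyp G p x) (hx : x ∈ commutator G) :
    Cfsg.pPrimeCore p G ≤ derivedSeries G 2 := by
  haveI := (core_spec (G := G) p).1
  intro s hs
  obtain ⟨k, hk, rfl⟩ := h.le_commutator_of_not_dvd h.not_dvd_core s hs
  rw [derivedSeries_succ, derivedSeries_one]
  exact Subgroup.commutator_mem_commutator (inv_mem (h.core_le_commutator hk)) hx

lemma of_relIndex_one (h : Hyp G p x) (he : (Subgroup.zpowers x).relIndex h.norm = 1) :
    (commutator G).index = p ∧ commutator G = Cfsg.pPrimeCore p G ∧ IsCyclic (G ⧸ commutator G) := by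
  haveI : Fact p.Prime := ⟨h.prime⟩
  obtain ⟨K, hKn, hKi, hKp⟩ := h.exists_complement he
  haveI := hKn
  haveI : IsCyclic (G ⧸ K) := isCyclic_of_prime_card (p := p) (by rw [← hKi]; rfl)
  have hle : commutator G ≤ K := by
    rw [← Subgroup.Normal.quotient_commutative_iff_commutator_le]
    exact ⟨⟨fun a b => IsCyclic.commGroup.mul_comm a b⟩⟩
  have hKc : K ≤ Cfsg.pPrimeCore p G :=
    le_core p hKn ((h.prime.coprime_iff_not_dvd.2 hKp).symm)
  have hge : K ≤ commutator G := hKc.trans h.core_le_commutator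
  have hcK : commutator G = K := le_antisymm hle hge
  refine ⟨by rw [hcK, hKi], le_antisymm (hle.trans hKc) h.core_le_commutator, ?_⟩
  exact isCyclic_of_prime_card (p := p) (by rw [← hKi, ← hcK]; rfl)

lemma index_commutator_eq (h : Hyp G p x) (hx : x ∈ commutator G)
    (hq : Nat.card (commutator G) = p * Nat.card (Cfsg.pPrimeCore p G)) :
    (commutator G).index = (Subgroup.zpowers x).relIndex h.norm ∧
      Nat.card (Cfsg.pPrimeCore p G) = h.norm.index := by
  haveI := (core_spec (G := G) p).1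
  obtain ⟨c, hc⟩ := h.card_dvd_index_norm h.not_dvd_core
  obtain ⟨d, hd⟩ := h.index_commutator_dvd hx
  have hG : Nat.card G = p * Nat.card (Cfsg.pPrimeCore p G) * (commutator G).index := by
    rw [← hq, Subgroup.card_mul_index]
  rw [← h.norm.card_mul_index, h.card_norm_eq, hc, hd] at hG
  have hpos : 0 < p * Nat.card (Cfsg.pPrimeCore p G) * (commutator G).index :=
    Nat.mul_pos (Nat.mul_pos h.prime.pos Nat.card_pos)
      (Nat.pos_of_ne_zero Subgroup.index_ne_zero_of_finite)
  have : p * Nat.card (Cfsg.pPrimeCore p G) * (commutator G).index * (c * d) =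
      p * Nat.card (Cfsg.pPrimeCore p G) * (commutator G).index * 1 := by
    rw [mul_one]; linarith [hG]
  have hcd := Nat.eq_of_mul_eq_mul_left hpos this
  obtain ⟨rfl, rfl⟩ := mul_eq_one.1 hcd
  exact ⟨by rw [hd, mul_one], by rw [hc, mul_one]⟩

lemma simple_quotient (h : Hyp G p x) (hx : x ∈ commutator G)
    (hn : ((Cfsg.pPrimeCore p G).subgroupOf (commutator G)).Normal) :
    IsSimpleGroup (↥(commutator G) ⧸ (Cfsg.pPrimeCore p G).subgroupOf (commutator G)) := by
  haveI : Fact p.Prime := ⟨h.prime⟩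
  haveI := hn
  set K := (Cfsg.pPrimeCore p G).subgroupOf (commutator G) with hK
  have hxK : (⟨x, hx⟩ : commutator G) ∉ K := by
    intro hm
    rw [hK, Subgroup.mem_subgroupOf] at hm
    have := orderOf_dvd_natCard (⟨x, hm⟩ : Cfsg.pPrimeCore p G)
    rw [← Subgroup.orderOf_coe, h.order] at this
    exact h.not_dvd_core this
  haveI : Nontrivial (↥(commutator G) ⧸ K) :=
    ⟨(QuotientGroup.mk ⟨x, hx⟩), 1, fun e => hxK ((QuotientGroup.eq_one_iff _).1 e)⟩
  refine ⟨fun N hN => ?_⟩
  set M := N.comap (QuotientGroup.mk' K) with hM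
  have hNM : N = M.map (QuotientGroup.mk' K) :=
    (Subgroup.map_comap_eq_self_of_surjective (QuotientGroup.mk'_surjective K) N).symm
  haveI hMn : M.Normal := hN.comap _
  by_cases hd : p ∣ Nat.card M
  · right
    -- `M` contains every subgroup of order `p`
    obtain ⟨y, hy⟩ := exists_prime_orderOf_dvd_card' p hd
    rw [← Subgroup.orderOf_coe] at hy
    set L : Subgroup G := M.map (commutator G).subtype with hL
    have hxL : x ∈ L := by
      have hT : Hyp (commutator G) p ⟨x, hx⟩ := by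
        refine ⟨h.prime, by rw [← Subgroup.orderOf_coe]; exact h.order, le_antisymm (fun z hz => ?_)
          (Subgroup.zpowers_le.2 (Subgroup.mem_centralizer_singleton_iff.2 rfl))⟩
        obtain ⟨k, hk⟩ := Subgroup.mem_zpowers_iff.1 (h.mem_zpowers_of_commute (g := (z : G))
          (congrArg Subtype.val (Subgroup.mem_centralizer_singleton_iff.1 hz)))
        exact Subgroup.mem_zpowers_iff.2 ⟨k, Subtype.ext (by simpa using hk)⟩
      exact ⟨⟨x, hx⟩, hT.mem_sylow_generated hMn hd, rfl⟩
    -- the conjugates of `x` lie in `L`, and they generate `G'`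
    have hclos : Subgroup.normalClosure ({x} : Set G) ≤ L := by
      rw [Subgroup.normalClosure, Subgroup.closure_le]
      intro z hz
      obtain ⟨w, hw, hwz⟩ := Group.mem_conjugatesOfSet_iff.1 hz
      rw [Set.mem_singleton_iff] at hw
      subst hw
      obtain ⟨c, rfl⟩ := isConj_iff.1 hwz
      have hcx : c * w * c⁻¹ ∈ commutator G :=
        Subgroup.Normal.conj_mem inferInstance w hx c
      refine ⟨⟨_, hcx⟩, ?_, rfl⟩
      obtain ⟨z0, hz0, hz0x⟩ := hxL
      obtain rfl : z0 = ⟨w, hx⟩ := Subtype.ext hz0x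
      have hT : Hyp (commutator G) p ⟨c * w * c⁻¹, hcx⟩ := by
        have hord : orderOf (c * w * c⁻¹) = p := by
          rw [show c * w * c⁻¹ = MulAut.conj c w from rfl, MulEquiv.orderOf_eq, h.order]
        refine ⟨h.prime, by rw [← Subgroup.orderOf_coe]; exact hord, le_antisymm (fun z hz => ?_)
          (Subgroup.zpowers_le.2 (Subgroup.mem_centralizer_singleton_iff.2 rfl))⟩
        have hz' : (z : G) ∈ Subgroup.centralizer ({c * w * c⁻¹} : Set G) :=
          Subgroup.mem_centralizer_singleton_iff.2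
            (congrArg Subtype.val (Subgroup.mem_centralizer_singleton_iff.1 hz))
        rw [h.centralizer_of_order hord] at hz'
        obtain ⟨k, hk⟩ := Subgroup.mem_zpowers_iff.1 hz'
        exact Subgroup.mem_zpowers_iff.2 ⟨k, Subtype.ext (by simpa using hk)⟩
      exact hT.mem_sylow_generated hMn hd
    haveI : (Subgroup.normalClosure ({x} : Set G)).Normal := Subgroup.normalClosure_normal
    have htop : commutator G ≤ L :=
      (h.commutator_le_of_mem (Subgroup.subset_normalClosure (Set.mem_singleton x))).trans hclos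
    have hMtop : M = ⊤ := by
      rw [eq_top_iff]
      intro z _
      obtain ⟨z', hz', hzz⟩ := htop z.2
      rwa [← Subtype.ext (show (z' : G) = z from hzz)]
    rw [hNM, hMtop, Subgroup.map_top_of_surjective _ (QuotientGroup.mk'_surjective K)]
  · left
    haveI := core_characteristic (G := commutator G) p
    have hle : M ≤ Cfsg.pPrimeCore p (commutator G) :=
      le_core p hMn ((h.prime.coprime_iff_not_dvd.2 hd).symm)
    have h2 : (Cfsg.pPrimeCore p (commutator G)).map (commutator G).subtype ≤ Cfsg.pPrimeCore p G :=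
      le_core p inferInstance (by
        rw [Subgroup.card_map_of_injective (Subgroup.subtype_injective _)]
        exact (core_spec (G := commutator G) p).2)
    rw [hNM, Subgroup.map_eq_bot_iff, QuotientGroup.ker_mk']
    intro z hz
    rw [hK, Subgroup.mem_subgroupOf]
    exact h2 ⟨z, hle hz, rfl⟩

lemma card_commutator_of_abelian (h : Hyp G p x) (hx : x ∈ commutator G)
    (hab : ⁅commutator G, commutator G⁆ ≤ Cfsg.pPrimeCore p G) :
    Nat.card (commutator G) = p * Nat.card (Cfsg.pPrimeCore p G) := by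
  haveI := (core_spec (G := G) p).1
  haveI : Fact p.Prime := ⟨h.prime⟩
  set K := (Cfsg.pPrimeCore p G).subgroupOf (commutator G)
  haveI : IsSimpleGroup (↥(commutator G) ⧸ K) := h.simple_quotient hx inferInstance
  have hcomm : IsMulCommutative (↥(commutator G) ⧸ K) := by
    rw [Subgroup.Normal.quotient_commutative_iff_commutator_le]
    refine (le_of_eq (_root_.commutator_eq_closure (↥(commutator G)))).trans ((Subgroup.closure_le _).2 ?_)
    rintro z ⟨a, b, rfl⟩
    rw [SetLike.mem_coe, Subgroup.mem_subgroupOf]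
    exact hab (Subgroup.commutator_mem_commutator a.2 b.2)
  have hprime : (Nat.card (↥(commutator G) ⧸ K)).Prime := by
    letI : CommGroup (↥(commutator G) ⧸ K) :=
      { (inferInstance : Group (↥(commutator G) ⧸ K)) with mul_comm := hcomm.1.comm }
    exact IsSimpleGroup.prime_card
  have hcard := Subgroup.card_eq_card_quotient_mul_card_subgroup K
  rw [Nat.card_congr (Subgroup.subgroupOfEquivOfLe h.core_le_commutator).toEquiv] at hcard
  have hpd : p ∣ Nat.card (commutator G) := by
    have := orderOf_dvd_natCard (⟨x, hx⟩ : commutator G)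
    rwa [← Subgroup.orderOf_coe, h.order] at this
  rw [hcard] at hpd ⊢
  rcases h.prime.dvd_mul.1 hpd with h1 | h1
  · rw [(Nat.prime_dvd_prime_iff_eq h.prime hprime).1 h1]
  · exact absurd h1 h.not_dvd_core

end Hyp

end CfsgLib.SelfCentralizing
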